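import Cfsg.Agent.Lib.G2TypeFusion.Hom
import Cfsg.Agent.Lib.Chev.G2InvolGroup
import Cfsg.Agent.Lib.Chev.G2OddOrders

/-!
The Sylow `2`-subgroups of the adjoint group of type `G₂` over a field of odd order are the model group.
-/

set_option autoImplicit false
set_option linter.unusedSectionVars false
set_option maxRecDepth 100000

namespace CfsgLib.G2TypeFusion

open Cfsg.Lie CfsgLib.Chev CfsgLib.Chev.G2Invol

variable {F : Type*} [Field F]

local notation "SL₂" => Matrix.SpecialLinearGroup (Fin 2)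
local notation "M₂" => Matrix (Fin 2) (Fin 2) F

theorem pow_nil {B : M₂} (hB : (B - 1) * (B - 1) = 0) (k : ℕ) : B ^ k = 1 + (k : F) • (B - 1) := by
  induction k with
  | zero => simp
  | succ k ih =>
    have e : B = 1 + (B - 1) := by abel
    calc B ^ (k + 1) = B ^ k * B := pow_succ B k
      _ = (1 + (k : F) • (B - 1)) * (1 + (B - 1)) := by rw [ih, ← e]
      _ = _ := by
        rw [mul_add, mul_one, Matrix.add_mul, Matrix.one_mul, Matrix.smul_mul, hB, smul_zero, add_zero,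
          Nat.cast_succ, add_smul, one_smul]
        abel

variable {N : ℕ} {A : SL₂ F}

/-- The trace is not `±2`. -/
theorem trace_ne (h2 : (2 : F) ≠ 0) {n : ℕ} (hn : 2 ≤ n) (hN : N = 2 ^ n) (hA : orderOf A = N) {s : F}
    (hs : s * s = 1) : A.1 0 0 + A.1 1 1 ≠ 2 * s := by
  intro h
  have hB : (s • A.1 - 1) * (s • A.1 - 1) = 0 := by
    have hc := sl_cayley A
    rw [h] at hc
    rw [sub_mul, mul_sub, mul_one, one_mul, Matrix.smul_mul, Matrix.mul_smul, smul_smul, hs, one_smul, hc]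
    module
  have he : (s • A.1) ^ N = 1 := by
    rw [smul_pow, ← Matrix.SpecialLinearGroup.coe_pow, ← hA, pow_orderOf_eq_one, hA, hN,
      show n = (n - 1) + 1 by omega, pow_succ', pow_mul, pow_two, hs, one_pow, one_smul]
    rfl
  rw [pow_nil hB, add_eq_left, hN, Nat.cast_pow, Nat.cast_two, smul_eq_zero] at he
  have h0 : s • A.1 = 1 := sub_eq_zero.1 (he.resolve_left (pow_ne_zero _ h2))
  have h1 : A ^ 2 = 1 := Subtype.ext (by
    show A.1 ^ 2 = 1
    have e : A.1 = s • (1 : M₂) := by rw [← h0, smul_smul, hs, one_smul]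
    rw [e, smul_pow, one_pow, pow_two, hs, one_smul])
  have h3 := Nat.le_of_dvd two_pos (hA ▸ orderOf_dvd_of_pow_eq_one h1)
  rw [hN] at h3
  have : 2 ^ 2 ≤ 2 ^ n := Nat.pow_le_pow_right two_pos hn
  omega

theorem half_pow (h2 : (2 : F) ≠ 0) {n : ℕ} (hn : 1 ≤ n) (hN : N = 2 ^ n) (hA : orderOf A = N) :
    A ^ (N / 2) = -1 := by
  have e : 2 ^ n = 2 ^ (n - 1) * 2 := by rw [← pow_succ, Nat.sub_add_cancel hn]
  have hd : N / 2 = 2 ^ (n - 1) := by omega
  have h : A ^ (N / 2) * A ^ (N / 2) = 1 := by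
    rw [← pow_add, show N / 2 + N / 2 = N by omega, ← hA, pow_orderOf_eq_one]
  refine (eq_pm_one_of_sq h2 h).resolve_left fun h' => ?_
  have h3 := Nat.le_of_dvd (by rw [hd]; exact Nat.two_pow_pos _) (hA ▸ orderOf_dvd_of_pow_eq_one h')
  have := Nat.two_pow_pos (n - 1)
  omega

/-- An element of square `-1` inverting `A`. -/
theorem exists_inverting [Fintype F] (h2 : (2 : F) ≠ 0) {n : ℕ} (hn : 2 ≤ n) (hN : N = 2 ^ n)
    (hA : orderOf A = N) : ∃ W : SL₂ F, W * W = -1 ∧ W * A = A⁻¹ * W := by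
  have hd : (A.1 0 0 + A.1 1 1) * (A.1 0 0 + A.1 1 1) - 4 ≠ 0 := by
    rw [show (4 : F) = 2 * 2 by norm_num, sub_ne_zero, Ne, mul_self_eq_mul_self_iff]
    rintro (h | h)
    · exact trace_ne h2 hn hN hA (one_mul 1) (by rw [h, mul_one])
    · exact trace_ne h2 hn hN hA (s := (-1 : F)) (by ring) (by rw [h]; ring)
  have hdet := A.2
  rw [Matrix.det_fin_two] at hdet
  obtain ⟨x, y, z, h1, hx⟩ : ∃ x y z : F,
      (A.1 0 0 - A.1 1 1) * x + A.1 0 1 * z + A.1 1 0 * y = 0 ∧ x * x + y * z = -1 := by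
    by_cases hs : A.1 1 0 = 0
    · have hpu : A.1 0 0 - A.1 1 1 ≠ 0 := fun h => hd (by
        rw [hs, mul_zero, sub_zero] at hdet
        linear_combination (A.1 0 0 - A.1 1 1) * h + 4 * hdet)
      refine ⟨-A.1 0 1 / (A.1 0 0 - A.1 1 1), -1 - (-A.1 0 1 / (A.1 0 0 - A.1 1 1)) ^ 2, 1, ?_, by ring⟩
      rw [hs]
      field_simp
      ring
    · obtain ⟨c, hc⟩ : ∃ c : F, c = -((A.1 0 0 - A.1 1 1) ^ 2 + 4 * A.1 0 1 * A.1 1 0) / (4 * A.1 1 0 ^ 2) :=
        ⟨_, rfl⟩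
      have hc0 : c ≠ 0 := by
        rw [hc]
        refine div_ne_zero (neg_ne_zero.2 fun h => hd ?_) (mul_ne_zero (by
          rw [show (4 : F) = 2 * 2 by norm_num]; exact mul_ne_zero h2 h2) (pow_ne_zero _ hs))
        linear_combination h + 4 * hdet
      obtain ⟨u, v, huv⟩ := FiniteField.exists_root_sum_quadratic
        (f := (Polynomial.X ^ 2 : Polynomial F)) (g := Polynomial.C c * Polynomial.X ^ 2 + 1)
        (Polynomial.degree_X_pow 2) (by
          rw [Polynomial.degree_add_eq_left_of_degree_lt] <;>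
            rw [Polynomial.degree_C_mul_X_pow 2 hc0]
          · rfl
          · rw [Polynomial.degree_one]; decide)
        (FiniteField.odd_card_of_char_ne_two fun e => h2 (by
          haveI : CharP F 2 := ringChar.of_eq e
          exact CharTwo.two_eq_zero))
      simp only [Polynomial.eval_pow, Polynomial.eval_X, Polynomial.eval_add, Polynomial.eval_mul,
        Polynomial.eval_C, Polynomial.eval_one] at huv
      refine ⟨u + (A.1 0 0 - A.1 1 1) * v / (2 * A.1 1 0),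
        -((A.1 0 0 - A.1 1 1) * (u + (A.1 0 0 - A.1 1 1) * v / (2 * A.1 1 0)) + A.1 0 1 * v) / A.1 1 0, v, ?_, ?_⟩
      · field_simp
        ring
      · rw [hc] at huv
        have h4 : (4 : F) ≠ 0 := by rw [show (4 : F) = 2 * 2 by norm_num]; exact mul_ne_zero h2 h2
        field_simp at huv ⊢
        linear_combination huv
  obtain ⟨W, hW⟩ : ∃ W : SL₂ F, W.1 = !![x, y; z, -x] :=
    ⟨⟨!![x, y; z, -x], by rw [Matrix.det_fin_two_of]; linear_combination -hx⟩, rfl⟩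
  refine ⟨W, Subtype.ext ?_, Subtype.ext ?_⟩
  · rw [Matrix.SpecialLinearGroup.coe_mul, Matrix.SpecialLinearGroup.coe_neg, Matrix.SpecialLinearGroup.coe_one, hW]
    ext i j
    fin_cases i <;> fin_cases j <;> simp [Matrix.mul_apply, Fin.sum_univ_two] <;>
      first | ring1 | linear_combination hx | linear_combination -hx
  · rw [Matrix.SpecialLinearGroup.coe_mul, Matrix.SpecialLinearGroup.coe_mul, Matrix.SpecialLinearGroup.coe_inv,
      Matrix.adjugate_fin_two, hW]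
    ext i j
    fin_cases i <;> fin_cases j <;> simp [Matrix.mul_apply, Fin.sum_univ_two] <;>
      first | ring1 | linear_combination h1 | linear_combination -h1

/-- The relations of the model inside the group. -/
theorem exists_rels [Fintype F] (h2 : (2 : F) ≠ 0) {n : ℕ} (hn : 2 ≤ n) (hN : N = 2 ^ n) (hA : orderOf A = N) :
    ∃ a d b₁ b₂ : GL chevG2.Idx F, Mdl.Rels N a d b₁ b₂ ∧ a ^ (N / 2) = tau ∧
      a ∈ chevG2.group F ∧ d ∈ chevG2.group F ∧ b₁ ∈ chevG2.group F ∧ b₂ ∈ chevG2.group F := by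
  obtain ⟨W, hW2, hWA⟩ := exists_inverting h2 hn hN hA
  have hh : A ^ (N / 2) = -1 := half_pow h2 (by omega) hN hA
  have hAN : A ^ N = 1 := hA ▸ pow_orderOf_eq_one A
  have hν0 : 2 + (A.1 0 0 + A.1 1 1) ≠ 0 := fun h =>
    trace_ne h2 hn hN hA (s := (-1 : F)) (by ring) (by linear_combination h)
  obtain ⟨ν, hν⟩ : ∃ ν : Fˣ, (ν : F) = 2 + (A.1 0 0 + A.1 1 1) := ⟨Units.mk0 _ hν0, rfl⟩
  have hdet := A.2
  rw [Matrix.det_fin_two] at hdet
  let P : SL₂ F := ⟨(1 + A.1) * !![((ν⁻¹ : Fˣ) : F), 0; 0, 1], by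
    rw [Matrix.det_mul, Matrix.det_fin_two, Matrix.det_fin_two_of]
    simp only [Matrix.add_apply, Matrix.one_apply_eq, ne_eq, Fin.isValue, zero_ne_one, not_false_eq_true,
      Matrix.one_apply_ne, one_ne_zero, zero_add, mul_zero, sub_zero, mul_one]
    linear_combination ν.mul_inv + ((ν⁻¹ : Fˣ) : F) * (hdet - hν)⟩
  have hsig : ∀ X : SL₂ F, (sig ν X).1 = !![(ν : F), 0; 0, 1] * X.1 * !![((ν⁻¹ : Fˣ) : F), 0; 0, 1] := fun X => by
    rw [sig_val]
    ext i j
    fin_cases i <;> fin_cases j <;> simp [Matrix.mul_apply, Matrix.vecMul, dotProduct, Fin.sum_univ_two] <;>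
      first | ring1 | (field_simp; ring1) | field_simp
  have hDi : !![((ν⁻¹ : Fˣ) : F), 0; 0, 1] * !![(ν : F), 0; 0, 1] = (1 : M₂) := by
    ext i j
    fin_cases i <;> fin_cases j <;> simp [Matrix.mul_apply, Fin.sum_univ_two]
  have hP : ∀ X Z : SL₂ F, (1 + A.1) * X.1 = Z.1 * (1 + A.1) → P * sig ν X = Z * P := fun X Z h => by
    refine Subtype.ext ?_
    rw [Matrix.SpecialLinearGroup.coe_mul, Matrix.SpecialLinearGroup.coe_mul, hsig]
    show (1 + A.1) * _ * _ = Z.1 * ((1 + A.1) * _)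
    simp only [← Matrix.mul_assoc]
    rw [Matrix.mul_assoc (1 + A.1), hDi, Matrix.mul_one, h]
  have hPA : P * sig ν A = A * P := hP A A (by rw [Matrix.add_mul, Matrix.mul_add, Matrix.one_mul, Matrix.mul_one])
  have hAWA : A * W * A = W := by rw [mul_assoc, hWA, mul_inv_cancel_left]
  have hPW : P * sig ν W = A * W * P := hP W (A * W) (by
    have e := congrArg Subtype.val hAWA
    simp only [Matrix.SpecialLinearGroup.coe_mul] at e ⊢
    rw [Matrix.add_mul, Matrix.mul_add, Matrix.one_mul, Matrix.mul_one, e, add_comm])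
  have hP2 : P * sig ν P * slD ν = A := by
    refine Subtype.ext ?_
    rw [Matrix.SpecialLinearGroup.coe_mul, Matrix.SpecialLinearGroup.coe_mul, hsig]
    show (1 + A.1) * _ * (_ * ((1 + A.1) * _) * _) * (slD ν).1 = A.1
    simp only [← Matrix.mul_assoc]
    rw [Matrix.mul_assoc (1 + A.1), hDi, Matrix.mul_one]
    have e : !![((ν⁻¹ : Fˣ) : F), 0; 0, 1] * !![((ν⁻¹ : Fˣ) : F), 0; 0, 1] * (slD ν).1 =
        ((ν⁻¹ : Fˣ) : F) • (1 : M₂) := by
      ext i j
      fin_cases i <;> fin_cases j <;> simp [slD, Matrix.mul_apply, Fin.sum_univ_two] <;> field_simp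
    have e2 : (1 + A.1) * (1 + A.1) = (ν : F) • A.1 := by
      rw [hν, Matrix.add_mul, Matrix.mul_add, Matrix.one_mul, Matrix.mul_add, Matrix.mul_one, Matrix.one_mul,
        sl_cayley]
      module
    rw [e2, Matrix.mul_assoc _ _ (slD ν).1, Matrix.mul_assoc, ← Matrix.mul_assoc _ _ (slD ν).1, e,
      Matrix.smul_mul, Matrix.mul_smul, Matrix.mul_one, smul_smul, Units.mul_inv, one_smul]
  obtain ⟨d, hd⟩ : ∃ d, d = Phi (P, P) * tG ν := ⟨_, rfl⟩
  have hconj : ∀ X Y X' Y' : SL₂ F, P * sig ν X = X' * P → P * sig ν Y = Y' * P →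
      d * Phi (X, Y) = Phi (X', Y') * d := by
    intro X Y X' Y' hX hY
    have e := mul_inv_eq_iff_eq_mul.1 (tG_conj ν (X, Y))
    rw [hd, mul_assoc, e, ← mul_assoc, ← mul_assoc, ← map_mul, ← map_mul, Prod.mk_mul_mk, Prod.mk_mul_mk, hX, hY]
  have hd2 : d * d = Phi (A, A) := by
    have e := mul_inv_eq_iff_eq_mul.1 (tG_conj ν (P, P))
    calc d * d = Phi (P, P) * (tG ν * Phi (P, P)) * tG ν := by rw [hd]; group
      _ = Phi (P, P) * Phi (sig ν P, sig ν P) * tG (ν * ν) := by rw [e, map_mul]; group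
      _ = _ := by rw [tG_sq, ← map_mul, ← map_mul, Prod.mk_mul_mk, Prod.mk_mul_mk, hP2]
  have h11 : ∀ X Y : SL₂ F, P * sig ν X = Y * P → d * Phi (X, 1) = Phi (Y, 1) * d := fun X Y h =>
    hconj X 1 Y 1 h (by rw [map_one, mul_one, one_mul])
  have h12 : ∀ X Y : SL₂ F, P * sig ν X = Y * P → d * Phi (1, X) = Phi (1, Y) * d := fun X Y h =>
    hconj 1 X 1 Y (by rw [map_one, mul_one, one_mul]) h
  have hWA' : W * A * W⁻¹ = A⁻¹ := mul_inv_eq_iff_eq_mul.2 hWA
  have key : ∀ X Y : SL₂ F × SL₂ F, X = Y → Phi X = Phi Y := fun X Y h => congrArg Phi h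
  refine ⟨Phi (A, 1), d, Phi (W, 1), Phi (1, W), ⟨?_, ?_, ?_, ?_, ?_, ?_, ?_, ?_, ?_, ?_⟩, ?_,
    Phi_mem_group _, ?_, Phi_mem_group _, Phi_mem_group _⟩
  · rw [← map_pow, Prod.pow_mk, hAN, one_pow]; exact map_one _
  · have h := Nat.two_pow_pos (n - 1)
    have e : 2 ^ n = 2 ^ (n - 1) * 2 := by rw [← pow_succ, Nat.sub_add_cancel (by omega)]
    rw [show N = 2 * (N / 2) by omega, pow_mul, sq, hd2, ← map_pow, Prod.pow_mk, hh, Phi_mk, phiA_neg_one,
      phiB_neg_one, tau, ← map_mul]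
    simp
  · exact (h11 A A hPA).symm
  · rw [← map_inv, ← map_mul, ← map_mul, ← map_inv]
    exact key _ _ (by simp [hWA'])
  · rw [mul_inv_eq_iff_eq_mul]
    have h := h11 W (A * W) hPW
    rw [show Phi ((A * W : SL₂ F), (1 : SL₂ F)) = Phi (A, 1) * Phi (W, 1) by
      rw [← map_mul]; exact key _ _ (by simp)] at h
    rw [mul_assoc, h]; group
  · rw [← map_inv, ← map_mul, ← map_mul]
    exact key _ _ (by simp)
  · rw [mul_inv_eq_iff_eq_mul]
    have h := h12 W (A * W) hPW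
    rw [show Phi ((1 : SL₂ F), (A * W : SL₂ F)) = Phi (1, A) * Phi (1, W) by
      rw [← map_mul]; exact key _ _ (by simp)] at h
    have hA2 : Phi ((1 : SL₂ F), A) = (Phi (A, 1))⁻¹ * (d * d) := by
      rw [hd2, ← map_inv, ← map_mul]; exact key _ _ (by simp)
    rw [hA2] at h
    calc Phi (1, W) * d = (d * d)⁻¹ * Phi (A, 1) * ((Phi (A, 1))⁻¹ * (d * d) * Phi (1, W) * d) := by group
      _ = (d * d)⁻¹ * Phi (A, 1) * (d * Phi (1, W)) := by rw [h]
      _ = (d * d)⁻¹ * (Phi (A, 1) * d) * Phi (1, W) := by group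
      _ = (d * d)⁻¹ * (d * Phi (A, 1)) * Phi (1, W) := by rw [h11 A A hPA]
      _ = d⁻¹ * Phi (A, 1) * Phi (1, W) := by group
      _ = _ := by
        have hc : Commute (Phi (A, 1)) d⁻¹ := (Commute.inv_right (h11 A A hPA).symm)
        rw [hc.eq]
  · rw [← map_pow, ← map_mul]
    exact key _ _ (by simp [hh, hW2])
  · rw [← map_pow, ← map_mul, Prod.pow_mk, hh, one_pow, Prod.mk_mul_mk, one_mul, hW2, Phi_mk, Phi_mk, map_one,
      map_one, one_mul, mul_one, phiA_neg_one, phiB_neg_one]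
  · rw [← map_mul, ← map_mul]
    exact key _ _ (by simp)
  · rw [← map_pow, Prod.pow_mk, hh, one_pow, Phi_mk, map_one, mul_one, phiA_neg_one]
  · rw [hd]; exact mul_mem (Phi_mem_group _) (tG_mem_group ν)

/-- The model maps isomorphically onto a Sylow `2`-subgroup. -/
theorem exists_sylow [Fintype F] (hF : Odd (Fintype.card F)) :
    ∃ n : ℕ, 2 ≤ n ∧ ∃ (_ : Fact (4 ∣ 2 ^ n)) (φ : Mdl (2 ^ n) →* ↥(chevG2.group F))
      (P : Sylow 2 ↥(chevG2.group F)), Function.Injective φ ∧ φ.range = P := by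
  classical
  have h2 := two_ne_of_odd hF
  haveI := Fact.mk Nat.prime_two
  obtain ⟨q, hq⟩ : ∃ q, Fintype.card F = q := ⟨_, rfl⟩
  have hq1 : 1 < q := hq ▸ Fintype.one_lt_card
  have hq2 : q % 2 = 1 := Nat.odd_iff.1 (hq ▸ hF)
  obtain ⟨m, hm, hm4, hsq⟩ : ∃ m, (m ∣ q - 1 ∨ m ∣ q + 1) ∧ 4 ∣ m ∧
      ∃ c, q ^ 2 - 1 = 2 * m * c ∧ Odd c ∧ ∃ n, m = 2 ^ n := by
    have e : q ^ 2 - 1 = (q + 1) * (q - 1) := by simpa using Nat.sq_sub_sq q 1
    rcases (show q % 4 = 1 ∨ q % 4 = 3 by omega) with h4 | h4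
    · obtain ⟨k, c, hc, hkc⟩ := Nat.exists_eq_two_pow_mul_odd (n := q - 1) (by omega)
      refine ⟨2 ^ k, Or.inl ⟨c, hkc⟩, ?_, (q + 1) / 2 * c, ?_, Odd.mul ?_ hc, k, rfl⟩
      · exact (Nat.Coprime.dvd_of_dvd_mul_right (Nat.Coprime.pow_left 2
          (Nat.coprime_two_left.2 hc)) (hkc ▸ (show 4 ∣ q - 1 by omega) : 2 ^ 2 ∣ 2 ^ k * c))
      · rw [e, hkc]
        have : q + 1 = 2 * ((q + 1) / 2) := by omega
        conv_lhs => rw [this]
        ring
      all_goals (rw [Nat.odd_iff]; omega)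
    · obtain ⟨k, c, hc, hkc⟩ := Nat.exists_eq_two_pow_mul_odd (n := q + 1) (by omega)
      refine ⟨2 ^ k, Or.inr ⟨c, hkc⟩, ?_, (q - 1) / 2 * c, ?_, Odd.mul ?_ hc, k, rfl⟩
      · exact (Nat.Coprime.dvd_of_dvd_mul_right (Nat.Coprime.pow_left 2
          (Nat.coprime_two_left.2 hc)) (hkc ▸ (show 4 ∣ q + 1 by omega) : 2 ^ 2 ∣ 2 ^ k * c))
      · rw [e, hkc]
        have : q - 1 = 2 * ((q - 1) / 2) := by omega
        conv_lhs => rw [this]
        ring
      all_goals (rw [Nat.odd_iff]; omega)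
  obtain ⟨c, hc, hcodd, n, rfl⟩ := hsq
  have hn : 2 ≤ n := by
    by_contra h
    have h1 := Nat.le_of_dvd (Nat.two_pow_pos n) hm4
    have : 2 ^ n ≤ 2 ^ 1 := Nat.pow_le_pow_right two_pos (by omega)
    omega
  have hN : Fact (4 ∣ 2 ^ n) := ⟨hm4⟩
  haveI : NeZero (2 ^ n) := ⟨(Nat.two_pow_pos n).ne'⟩
  obtain ⟨A, hA⟩ := G2Z.exists_sl2_order (F := F) hq
    (le_trans (by norm_num) (Nat.pow_le_pow_right two_pos hn)) hm
  obtain ⟨a, d, b₁, b₂, R, hz, ha, hd, hb₁, hb₂⟩ := exists_rels h2 hn rfl hA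
  let φ : Mdl (2 ^ n) →* ↥(chevG2.group F) := (Mdl.lift R).codRestrict _ fun x => by
    refine mul_mem (mul_mem (pow_mem ha _) (pow_mem hd _)) (mul_mem ?_ ?_)
    · cases x.e
      exacts [one_mem _, hb₁]
    · cases x.f
      exacts [one_mem _, hb₂]
  have hinj : Function.Injective φ := Mdl.injective_of_z rfl φ fun h => by
    have h' : Mdl.lift R (Mdl.z (2 ^ n)) = 1 := congrArg Subtype.val h
    rw [Mdl.lift_z, hz] at h'
    exact tau_ne_one h2 h'
  have hcard : Nat.card φ.range = 2 ^ (Nat.card ↥(chevG2.group F)).factorization 2 := by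
    rw [← Nat.card_congr (MonoidHom.ofInjective hinj).toEquiv, Mdl.card_mdl]
    have hg := card_groupG2 F
    rw [one_mul, hq] at hg
    have h1 : 1 ≤ q ^ 2 := Nat.one_le_pow _ _ (by omega)
    have h3 : q ^ 6 - 1 = (q ^ 2 - 1) * (q ^ 4 + q ^ 2 + 1) := by
      zify [h1, Nat.one_le_pow 6 q (by omega)]
      ring
    obtain ⟨r, hr⟩ : ∃ r, r = q ^ 6 * (c * c) * (q ^ 4 + q ^ 2 + 1) := ⟨_, rfl⟩
    have hg' : Nat.card ↥(chevG2.group F) = 2 ^ (2 * n + 2) * r := by
      rw [hg, h3, hc, hr]; ring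
    have hro : ¬ 2 ∣ r := by
      rw [hr, ← even_iff_two_dvd, Nat.not_even_iff_odd]
      have hqo : Odd q := Nat.odd_iff.2 hq2
      exact (hqo.pow.mul (hcodd.mul hcodd)).mul (((hqo.pow.add_odd hqo.pow).add_odd odd_one))
    rw [hg', Nat.factorization_mul (by positivity) (fun h => hro (by rw [h]; exact dvd_zero 2)), Finsupp.add_apply,
      Nat.factorization_pow, Finsupp.smul_apply, Nat.Prime.factorization_self Nat.prime_two,
      Nat.factorization_eq_zero_of_not_dvd hro, smul_eq_mul, mul_one, add_zero]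
    ring
  exact ⟨n, hn, hN, φ, Sylow.ofCard φ.range hcard, hinj, (Sylow.coe_ofCard _ _).symm⟩

end CfsgLib.G2TypeFusion
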