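import Cfsg.Agent.Lib.G2TypeFusion.Model

/-!
Homomorphisms from the model group given by generators and relations, and a criterion for injectivity.
-/

set_option autoImplicit false

namespace CfsgLib.G2TypeFusion.Mdl

set_option linter.unusedSectionVars false
set_option linter.unusedSimpArgs false

variable {N : ℕ} [hN : Fact (4 ∣ N)] [NeZero N]

/-- The relations of the model in a group. -/
structure Rels (N : ℕ) {G : Type*} [Group G] (a d b₁ b₂ : G) : Prop where
  a_pow : a ^ N = 1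
  d_pow : d ^ N = 1
  ad : a * d = d * a
  b1a : b₁ * a * b₁⁻¹ = a⁻¹
  b1d : b₁ * d * b₁⁻¹ = a⁻¹ * d
  b2a : b₂ * a * b₂⁻¹ = a
  b2d : b₂ * d * b₂⁻¹ = a * d⁻¹
  b1sq : b₁ * b₁ = a ^ (N / 2)
  b2sq : b₂ * b₂ = a ^ (N / 2)
  bb : b₁ * b₂ = b₂ * b₁

variable {G : Type*} [Group G] {a d b₁ b₂ : G}

theorem pow_val_add {g : G} (hg : g ^ N = 1) (x y : ZMod N) :
    g ^ (x + y).val = g ^ x.val * g ^ y.val := by
  rw [ZMod.val_add, ← pow_add, ← pow_eq_pow_mod _ hg]

theorem pow_val_neg {g : G} (hg : g ^ N = 1) (x : ZMod N) : g ^ (-x).val = (g ^ x.val)⁻¹ :=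
  eq_inv_of_mul_eq_one_left (by rw [← pow_val_add hg, neg_add_cancel, ZMod.val_zero, pow_zero])

/-- The image of a torus element. -/
def torVal (a d : G) (i j : ZMod N) : G := a ^ i.val * d ^ j.val

/-- The image of `b₁^e b₂^f`. -/
def bVal (b₁ b₂ : G) (e f : Bool) : G := (bif e then b₁ else 1) * (bif f then b₂ else 1)

theorem torVal_add (R : Rels N a d b₁ b₂) (i i' j j' : ZMod N) :
    torVal a d (i + i') (j + j') = torVal a d i j * torVal a d i' j' := by
  have hc : Commute (a ^ i'.val) (d ^ j.val) := (Commute.pow_pow R.ad _ _)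
  rw [torVal, torVal, torVal, pow_val_add R.a_pow, pow_val_add R.d_pow]
  calc a ^ i.val * a ^ i'.val * (d ^ j.val * d ^ j'.val)
      = a ^ i.val * (a ^ i'.val * d ^ j.val) * d ^ j'.val := by group
    _ = a ^ i.val * (d ^ j.val * a ^ i'.val) * d ^ j'.val := by rw [hc.eq]
    _ = _ := by group

theorem b1_tor (R : Rels N a d b₁ b₂) (i j : ZMod N) :
    b₁ * torVal a d i j = torVal a d (-i - j) j * b₁ := by
  rw [← mul_inv_eq_iff_eq_mul, torVal, torVal, sub_eq_add_neg, pow_val_add R.a_pow, pow_val_neg R.a_pow,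
    pow_val_neg R.a_pow]
  have e : b₁ * (a ^ i.val * d ^ j.val) * b₁⁻¹ = (b₁ * a ^ i.val * b₁⁻¹) * (b₁ * d ^ j.val * b₁⁻¹) := by group
  have hc : Commute a⁻¹ d := (Commute.inv_left R.ad)
  rw [e, ← conj_pow, ← conj_pow, R.b1a, R.b1d, hc.mul_pow, inv_pow, inv_pow, mul_assoc]

theorem b2_tor (R : Rels N a d b₁ b₂) (i j : ZMod N) :
    b₂ * torVal a d i j = torVal a d (i + j) (-j) * b₂ := by
  rw [← mul_inv_eq_iff_eq_mul, torVal, torVal, pow_val_add R.a_pow, pow_val_neg R.d_pow]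
  have e : b₂ * (a ^ i.val * d ^ j.val) * b₂⁻¹ = (b₂ * a ^ i.val * b₂⁻¹) * (b₂ * d ^ j.val * b₂⁻¹) := by group
  have hc : Commute a d⁻¹ := (Commute.inv_right R.ad)
  rw [e, ← conj_pow, ← conj_pow, R.b2a, R.b2d, hc.mul_pow, inv_pow, mul_assoc]

theorem b_tor (R : Rels N a d b₁ b₂) (e f : Bool) (i j : ZMod N) :
    bVal b₁ b₂ e f * torVal a d i j = torVal a d (act1 e f i j) (act2 f j) * bVal b₁ b₂ e f := by
  cases e <;> cases f <;> simp [bVal, act1, act2]
  · exact b2_tor R i j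
  · exact b1_tor R i j
  · rw [mul_assoc, b2_tor R, ← mul_assoc, b1_tor R]
    rw [show -(i + j) - -j = -i by ring, mul_assoc]

theorem b_mul (R : Rels N a d b₁ b₂) (e f e' f' : Bool) :
    bVal b₁ b₂ e f * bVal b₁ b₂ e' f' = torVal a d (coc N e f e' f') 0 * bVal b₁ b₂ (xor e e') (xor f f') := by
  have hh1 : (hh N).val = N / 2 := by
    rw [hh, ZMod.val_natCast, Nat.mod_eq_of_lt]
    exact Nat.div_lt_self (Nat.pos_of_ne_zero (NeZero.ne N)) one_lt_two
  have hz : a ^ (N / 2) * a ^ (N / 2) = 1 := by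
    rw [← pow_add, show N / 2 + N / 2 = N by
      obtain ⟨k, hk⟩ := hN.out
      omega, R.a_pow]
  have hT : torVal a d (hh N) (0 : ZMod N) = a ^ (N / 2) := by
    rw [torVal, hh1, ZMod.val_zero, pow_zero, mul_one]
  have hT0 : torVal a d (0 : ZMod N) (0 : ZMod N) = 1 := by
    rw [torVal, ZMod.val_zero, pow_zero, pow_zero, mul_one]
  have h1 : ∀ x : G, b₁ * (b₁ * x) = a ^ (N / 2) * x := fun x => by rw [← mul_assoc, R.b1sq]
  have h2 : ∀ x : G, b₂ * (b₂ * x) = a ^ (N / 2) * x := fun x => by rw [← mul_assoc, R.b2sq]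
  have h21 : b₂ * b₁ = b₁ * b₂ := R.bb.symm
  have h21' : ∀ x : G, b₂ * (b₁ * x) = b₁ * (b₂ * x) := fun x => by rw [← mul_assoc, h21, mul_assoc]
  have hb1a : b₁ * a ^ (N / 2) = a ^ (N / 2) * b₁ := by rw [← R.b1sq, mul_assoc]
  have h1a : ∀ x : G, b₁ * (a ^ (N / 2) * x) = a ^ (N / 2) * (b₁ * x) := fun x => by
    rw [← mul_assoc, hb1a, mul_assoc]
  cases e <;> cases f <;> cases e' <;> cases f' <;>
    simp [bVal, coc, hT, hT0, mul_assoc, h1, h21, h21', R.b1sq, R.b2sq, hb1a, h1a, hz]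

/-- The homomorphism given by the relations. -/
def lift (R : Rels N a d b₁ b₂) : Mdl N →* G :=
  MonoidHom.mk' (fun x => torVal a d x.i x.j * bVal b₁ b₂ x.e x.f) fun x y => by
    obtain ⟨i, j, e, f⟩ := x
    obtain ⟨i', j', e', f'⟩ := y
    show torVal a d (i + act1 e f i' j' + coc N e f e' f') (j + act2 f j') * bVal b₁ b₂ (xor e e') (xor f f') =
      torVal a d i j * bVal b₁ b₂ e f * (torVal a d i' j' * bVal b₁ b₂ e' f')
    rw [show j + act2 f j' = j + act2 f j' + 0 from (add_zero _).symm, torVal_add R, torVal_add R, mul_assoc,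
      ← b_mul R e f e' f']
    calc torVal a d i j * torVal a d (act1 e f i' j') (act2 f j') * (bVal b₁ b₂ e f * bVal b₁ b₂ e' f')
        = torVal a d i j * (torVal a d (act1 e f i' j') (act2 f j') * bVal b₁ b₂ e f) * bVal b₁ b₂ e' f' := by group
      _ = _ := by rw [← b_tor R]; group

theorem lift_z (R : Rels N a d b₁ b₂) : lift R (z N) = a ^ (N / 2) := by
  have hh1 : (hh N).val = N / 2 := by
    rw [hh, ZMod.val_natCast, Nat.mod_eq_of_lt]
    exact Nat.div_lt_self (Nat.pos_of_ne_zero (NeZero.ne N)) one_lt_two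
  simp [lift, z, torVal, bVal, hh1]

instance : Finite (Mdl N) :=
  Finite.of_equiv _ (equivProd N).symm

/-- A homomorphism that does not kill `z` is injective. -/
theorem injective_of_z {n : ℕ} (hn : N = 2 ^ n) (φ : Mdl N →* G) (hz : φ (z N) ≠ 1) :
    Function.Injective φ := by
  have hp : IsPGroup 2 (Mdl N) := IsPGroup.of_card (n := 2 + 2 * n) (by
    rw [card_mdl, hn, pow_add, mul_comm 2 n, pow_mul]; norm_num)
  refine (injective_iff_map_eq_one φ).2 fun x hx => ?_
  by_contra hx1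
  -- a torus element of the kernel
  obtain ⟨y, hy, hy1, hye, hyf⟩ : ∃ y : Mdl N, φ y = 1 ∧ y ≠ 1 ∧ y.e = false ∧ y.f = false := by
    by_cases ht : x.e = false ∧ x.f = false
    · exact ⟨x, hx, hx1, ht.1, ht.2⟩
    refine ⟨x * tor 0 1 * x⁻¹ * (tor 0 1)⁻¹, ?_, ?_, ?_, ?_⟩
    · simp [map_mul, map_inv, hx]
    · rw [Ne, mul_inv_eq_one, mul_inv_eq_iff_eq_mul]
      obtain ⟨i, j, e, f⟩ := x
      have h4 : (4 : ℕ) ≤ N := Nat.le_of_dvd (Nat.pos_of_ne_zero (NeZero.ne N)) hN.out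
      have h1 : (1 : ZMod N) ≠ 0 := by
        have : Fact (1 < N) := ⟨by omega⟩
        exact one_ne_zero
      have h2 : (2 : ZMod N) ≠ 0 := by
        intro h
        have h' : ((2 : ℕ) : ZMod N) = 0 := by exact_mod_cast h
        rw [ZMod.natCast_eq_zero_iff] at h'
        have := Nat.le_of_dvd two_pos h'
        omega
      intro h
      cases e <;> cases f <;> simp [tor, mul_def, act1, act2, coc] at h ht
      all_goals first
        | exact h1 h.1
        | exact h1 (by linear_combination h.1)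
        | exact h1 (by linear_combination h)
        | exact h1 (by linear_combination -h)
        | exact h2 (by linear_combination h)
        | exact h2 (by linear_combination -h)
    · simp [mul_def, inv_def, tor]
    · simp [mul_def, inv_def, tor]
  -- its involution
  let T : Subgroup (Mdl N) := φ.ker ⊓
    { carrier := {v | v.e = false ∧ v.f = false}
      one_mem' := ⟨rfl, rfl⟩
      mul_mem' := fun {u v} hu hv => by simp [Set.mem_ofPred_eq, mul_def] at *; simp [hu.1, hu.2, hv.1, hv.2]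
      inv_mem' := fun {u} hu => hu }
  have hT : T ≠ ⊥ := fun h => hy1 (by
    have hm : y ∈ T := Subgroup.mem_inf.2 ⟨hy, hye, hyf⟩
    rwa [h, Subgroup.mem_bot] at hm)
  have : Fact (Nat.Prime 2) := ⟨Nat.prime_two⟩
  have h2 : 2 ∣ Nat.card T := by
    obtain ⟨k, hk⟩ := IsPGroup.iff_card.1 (hp.to_subgroup T)
    rw [hk]
    refine dvd_pow_self 2 fun h0 => hT ?_
    rw [h0, pow_zero] at hk
    exact T.eq_bot_of_card_eq hk
  obtain ⟨⟨u, hu⟩, huo⟩ := exists_prime_orderOf_dvd_card' 2 h2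
  rw [Subgroup.orderOf_mk] at huo
  have hu2 : u * u = 1 := by rw [← sq, ← huo]; exact pow_orderOf_eq_one u
  have hu1 : u ≠ 1 := fun h => by rw [h, orderOf_one] at huo; omega
  obtain ⟨huk, hue, huf⟩ := Subgroup.mem_inf.1 hu
  have he : φ (e₀ N) = 1 → False := fun h => by
    apply hz
    rw [show z N = (⟨0, 0, true, false⟩ : Mdl N) * e₀ N * ⟨0, 0, true, false⟩⁻¹ * (e₀ N)⁻¹ from by
      simp [z, e₀, mul_def, inv_def, act1, act2, coc, hh_neg, hh_add]]
    simp [map_mul, map_inv, h]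
  rcases invol_cases hu2 hu1 with h | h | h | h | h | ⟨-, h⟩ | h
  · exact hz (h ▸ huk)
  · obtain ⟨g, hg⟩ := isConj_iff.1 h.symm
    exact he (by rw [← hg, map_mul, map_mul, map_inv, MonoidHom.mem_ker.1 huk, mul_one, mul_inv_cancel])
  all_goals
    have := isConj_ef h
    rw [hue, huf] at this
    simp [c2, c3, c4, c5, c6] at this

end CfsgLib.G2TypeFusion.Mdl
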