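import Cfsg.Agent.Lib.Transfer.SylowLemmas

/-!
In a simple group an involution has an odd number of fixed cosets of a Sylow `2`-subgroup `P` that come
from a given subgroup of index two in `P`; hence a `2`-group centralising it can be moved along.
-/

set_option autoImplicit false

namespace CfsgLib.G2TypeFusion

open Subgroup

variable {G : Type*} [Group G] [Finite G]

/-- An involution moves a multiple of four points. -/
theorem four_dvd_moved [IsSimpleGroup G] (hG : ¬ IsMulCommutative G) {α : Type*} [Fintype α] [DecidableEq α]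
    (f : G →* Equiv.Perm α) {k : G} (hk : k * k = 1) : 4 ∣ (f k).support.card := by
  set σ := f k with hσ
  have hsq : σ ^ 2 = 1 := by rw [hσ, ← map_pow, pow_two, hk, map_one]
  by_cases h1 : σ = 1
  · simp [h1]
  have ho : orderOf σ = 2 := orderOf_eq_prime hsq h1
  obtain ⟨n, hn⟩ := Equiv.Perm.cycleType_prime_order (σ := σ) (ho ▸ Nat.prime_two)
  rw [ho] at hn
  have hs := CfsgLib.Transfer.sign_eq_one_of_simple hG f k
  rw [← hσ, Equiv.Perm.sign_of_cycleType, hn, Multiset.sum_replicate, Multiset.card_replicate,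
    smul_eq_mul] at hs
  rw [← σ.sum_cycleType, hn, Multiset.sum_replicate, smul_eq_mul]
  have heven : Even ((n + 1) * 2 + (n + 1)) := by
    by_contra hodd
    rw [Nat.not_even_iff_odd] at hodd
    rw [hodd.neg_one_pow] at hs
    exact absurd hs (by decide)
  obtain ⟨m, hm⟩ : Even (n + 1) := by
    obtain ⟨m, hm⟩ := heven
    exact ⟨m - (n + 1), by omega⟩
  exact ⟨m, by omega⟩

open scoped _root_.Classical in
/-- **Transfer, in counting form.** -/
theorem exists_move [IsSimpleGroup G] (hG : ¬ IsMulCommutative G) (P : Sylow 2 G) {Q : Subgroup G}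
    (hQP : Q ≤ (P : Subgroup G)) (hQi : Q.relIndex (P : Subgroup G) = 2) {u : G} (hu : u * u = 1)
    {R : Subgroup G} (hR : IsPGroup 2 R) (hRu : ∀ r ∈ R, r * u = u * r) :
    ∃ g : G, g * u * g⁻¹ ∈ Q ∧ ∀ r ∈ R, g * r * g⁻¹ ∈ (P : Subgroup G) := by
  have : Fact (Nat.Prime 2) := ⟨Nat.prime_two⟩
  haveI : Fintype (G ⧸ Q) := Fintype.ofFinite _
  -- normality of `Q` in `P`
  have hn : (Q.subgroupOf (P : Subgroup G)).Normal := normal_of_index_eq_two hQi
  have hconj : ∀ p ∈ (P : Subgroup G), ∀ q ∈ Q, p * q * p⁻¹ ∈ Q := fun p hp q hq =>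
    mem_subgroupOf.1 (hn.conj_mem ⟨q, hQP hq⟩ (mem_subgroupOf.2 hq) ⟨p, hp⟩)
  have hinv : ∀ x : G, ∀ p ∈ (P : Subgroup G), (x * p)⁻¹ * u * (x * p) ∈ Q ↔ x⁻¹ * u * x ∈ Q := by
    intro x p hp
    constructor
    · intro h
      have h' := hconj p hp _ h
      rwa [show p * ((x * p)⁻¹ * u * (x * p)) * p⁻¹ = x⁻¹ * u * x by group] at h'
    · intro h
      have h' := hconj p⁻¹ (inv_mem hp) _ h
      rwa [show p⁻¹ * (x⁻¹ * u * x) * p⁻¹⁻¹ = (x * p)⁻¹ * u * (x * p) by group] at h'
  let X : Set (G ⧸ (P : Subgroup G)) := {c | c.out⁻¹ * u * c.out ∈ Q}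
  have hX : ∀ x : G, (QuotientGroup.mk x : G ⧸ (P : Subgroup G)) ∈ X ↔ x⁻¹ * u * x ∈ Q := fun x => by
    obtain ⟨p, hp⟩ := QuotientGroup.mk_out_eq_mul (P : Subgroup G) x
    show (QuotientGroup.mk x : G ⧸ (P : Subgroup G)).out⁻¹ * u * _ ∈ Q ↔ _
    rw [hp, hinv x p p.2]
  -- the set has odd size
  obtain ⟨q₀, hq₀, hq₀Q⟩ : ∃ q₀ ∈ (P : Subgroup G), q₀ ∉ Q := by
    by_contra h
    push Not at h
    rw [relIndex_eq_one.2 h] at hQi
    omega
  have hfix : Nat.card {c : G ⧸ Q // u • c = c} = 2 * Nat.card X := by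
    let e : Bool × X → {c : G ⧸ Q // u • c = c} := fun p =>
      ⟨QuotientGroup.mk ((p.2 : G ⧸ (P : Subgroup G)).out * bif p.1 then q₀ else 1), by
        rw [MulAction.Quotient.smul_mk, eq_comm, QuotientGroup.eq, smul_eq_mul, ← mul_assoc]
        refine (hinv _ _ ?_).2 p.2.2
        cases p.1
        exacts [one_mem _, hq₀]⟩
    have he : Function.Bijective e := by
      constructor
      · rintro ⟨b, c⟩ ⟨b', c'⟩ h
        have h' := QuotientGroup.eq.1 (congrArg Subtype.val h)
        have hmem : ∀ b : Bool, (bif b then q₀ else 1) ∈ (P : Subgroup G) := fun b => by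
          cases b
          exacts [one_mem _, hq₀]
        have hcc : c = c' := by
          refine Subtype.ext ?_
          rw [← Quotient.out_eq' (c : G ⧸ (P : Subgroup G)), ← Quotient.out_eq' (c' : G ⧸ (P : Subgroup G))]
          refine QuotientGroup.eq.2 ?_
          have := mul_mem (mul_mem (hmem b) (hQP h')) (inv_mem (hmem b'))
          simpa [mul_assoc] using this
        subst hcc
        refine Prod.ext ?_ rfl
        cases b <;> cases b' <;> simp [mul_assoc] at h' ⊢
        · exact hq₀Q h'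
        · exact hq₀Q h'
      · rintro ⟨c, hc⟩
        induction c using QuotientGroup.induction_on with
        | H x =>
          rw [MulAction.Quotient.smul_mk, eq_comm, QuotientGroup.eq, smul_eq_mul, ← mul_assoc] at hc
          obtain ⟨p, hp⟩ := QuotientGroup.mk_out_eq_mul (P : Subgroup G) x
          have key : ∀ b : Bool, ((p : G) * (bif b then q₀ else 1))⁻¹ ∈ Q →
              ∃ a, e a = ⟨QuotientGroup.mk x, by
                rw [MulAction.Quotient.smul_mk, eq_comm, QuotientGroup.eq, smul_eq_mul, ← mul_assoc]; exact hc⟩ := by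
            intro b hb
            refine ⟨⟨b, ⟨QuotientGroup.mk x, (hX x).2 hc⟩⟩, Subtype.ext (QuotientGroup.eq.2 ?_)⟩
            rw [hp]
            simpa [mul_assoc] using hb
          by_cases hpQ : (p : G) ∈ Q
          · exact key false (by simpa using inv_mem hpQ)
          · refine key true (inv_mem ?_)
            have h2 := (index_eq_two_iff.1 hQi)
            have := (mul_mem_iff_of_index_two (H := Q.subgroupOf (P : Subgroup G)) hQi
              (a := p) (b := ⟨q₀, hq₀⟩)).2 ⟨fun h => absurd (mem_subgroupOf.1 h) hpQ,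
                fun h => absurd (mem_subgroupOf.1 h) hq₀Q⟩
            exact mem_subgroupOf.1 this
    rw [← Nat.card_eq_of_bijective e he, Nat.card_prod, Nat.card_eq_fintype_card, Fintype.card_bool]
  have hodd : ¬ 2 ∣ Nat.card X := by
    have h4 := four_dvd_moved hG (MulAction.toPermHom G (G ⧸ Q)) hu
    have hle := ((MulAction.toPermHom G (G ⧸ Q)) u).support.card_le_univ
    have hc : Nat.card {c : G ⧸ Q // u • c = c} =
        Fintype.card (G ⧸ Q) - ((MulAction.toPermHom G (G ⧸ Q)) u).support.card := by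
      rw [Nat.card_eq_fintype_card, Fintype.card_subtype, ← Finset.card_compl]
      congr 1
      ext c
      simp
    have hidx : Fintype.card (G ⧸ Q) = 2 * (P : Subgroup G).index := by
      rw [← Nat.card_eq_fintype_card, ← index_eq_card, ← relIndex_mul_index hQP, hQi]
    have hP := P.not_dvd_index
    intro h
    omega
  let _ : MulAction R X :=
    { smul := fun r c => ⟨(r : G) • (c : G ⧸ (P : Subgroup G)), by
        obtain ⟨c, hc⟩ := c
        induction c using QuotientGroup.induction_on with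
        | H x =>
          rw [MulAction.Quotient.smul_mk, hX, smul_eq_mul]
          rw [hX] at hc
          rwa [show ((r : G) * x)⁻¹ * u * ((r : G) * x) = x⁻¹ * ((r : G)⁻¹ * (u * r)) * x by group,
            ← hRu r r.2, inv_mul_cancel_left]⟩
      one_smul := fun c => Subtype.ext (one_smul G (c : G ⧸ (P : Subgroup G)))
      mul_smul := fun a b c => Subtype.ext (mul_smul (a : G) (b : G) (c : G ⧸ (P : Subgroup G))) }
  obtain ⟨c, hc⟩ := hR.nonempty_fixed_point_of_prime_not_dvd_card X hodd
  obtain ⟨c, hcX⟩ := c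
  induction c using QuotientGroup.induction_on with
  | H x =>
    refine ⟨x⁻¹, by rw [inv_inv]; exact (hX x).1 hcX, fun r hr => ?_⟩
    have h := congrArg Subtype.val (hc ⟨r, hr⟩)
    change r • (QuotientGroup.mk x : G ⧸ (P : Subgroup G)) = QuotientGroup.mk x at h
    rw [MulAction.Quotient.smul_mk, eq_comm, QuotientGroup.eq, smul_eq_mul, ← mul_assoc] at h
    rwa [inv_inv]

end CfsgLib.G2TypeFusion
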