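import Cfsg.Agent.Lib.G2TypeFusion.Hom
import Cfsg.Agent.Lib.G2TypeFusion.OddCount
import Cfsg.Agent.Lib.Invol.BrauerSuzuki

/-!
Simple groups whose Sylow `2`-subgroups are isomorphic to the model group: one class of involutions, or order
`64` and two classes.
-/

set_option autoImplicit false

namespace CfsgLib.G2TypeFusion

open Subgroup

variable {G : Type*} [Group G] [Finite G]

/-- A `2`-element commuting with `x` moves into `S` along with `x ↦ z`, for `z` central in `S`. -/
theorem exists_move_central (S : Sylow 2 G) {z x : G} (hz : ∀ s ∈ (S : Subgroup G), s * z = z * s)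
    (hxz : IsConj x z) {R : Subgroup G} (hR : IsPGroup 2 R) (hRx : ∀ r ∈ R, r * x = x * r) :
    ∃ g : G, g * x * g⁻¹ = z ∧ ∀ r ∈ R, g * r * g⁻¹ ∈ (S : Subgroup G) := by
  have : Fact (Nat.Prime 2) := ⟨Nat.prime_two⟩
  obtain ⟨g₀, hg₀⟩ := isConj_iff.1 hxz
  let C := centralizer ({z} : Set G)
  have hSC : (S : Subgroup G) ≤ C := fun s hs => mem_centralizer_singleton_iff.2 (hz s hs)
  have hRC : R.map (MulAut.conj g₀).toMonoidHom ≤ C := by
    rintro _ ⟨r, hr, rfl⟩
    refine mem_centralizer_singleton_iff.2 ?_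
    show g₀ * r * g₀⁻¹ * z = z * (g₀ * r * g₀⁻¹)
    rw [← hg₀]
    calc g₀ * r * g₀⁻¹ * (g₀ * x * g₀⁻¹) = g₀ * (r * x) * g₀⁻¹ := by group
      _ = g₀ * (x * r) * g₀⁻¹ := by rw [hRx r hr]
      _ = _ := by group
  obtain ⟨Q, hQ⟩ := ((hR.map (MulAut.conj g₀).toMonoidHom).comap_of_injective C.subtype
    C.subtype_injective).exists_le_sylow
  obtain ⟨k, hk⟩ := MulAction.exists_smul_eq C Q (S.subtype hSC)
  refine ⟨(k : G) * g₀, ?_, fun r hr => ?_⟩
  · have h : (k : G) * z = z * k := mem_centralizer_singleton_iff.1 k.2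
    calc (k : G) * g₀ * x * ((k : G) * g₀)⁻¹ = (k : G) * (g₀ * x * g₀⁻¹) * (k : G)⁻¹ := by group
      _ = z := by rw [hg₀, h, mul_inv_cancel_right]
  · have hm : (⟨g₀ * r * g₀⁻¹, hRC ⟨r, hr, rfl⟩⟩ : C) ∈ (Q : Subgroup C) := hQ ⟨r, hr, rfl⟩
    have hm' : k * ⟨g₀ * r * g₀⁻¹, hRC ⟨r, hr, rfl⟩⟩ * k⁻¹ ∈ ((k • Q : Sylow 2 C) : Subgroup C) := by
      rw [Sylow.coe_subgroup_smul]
      exact smul_mem_pointwise_smul _ (MulAut.conj k) _ hm
    rw [hk] at hm'
    have e : (k : G) * g₀ * r * ((k : G) * g₀)⁻¹ = k * (g₀ * r * g₀⁻¹) * (k : G)⁻¹ := by group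
    rw [e]
    exact hm'

variable [IsSimpleGroup G] {N : ℕ} [hN : Fact (4 ∣ N)] [NeZero N]

open Mdl

/-- **The fusion theorem.** -/
theorem classes {n : ℕ} (hn : 2 ≤ n) (hNn : N = 2 ^ n) (S : Sylow 2 G) (ψ : Mdl N →* G)
    (hψ : Function.Injective ψ) (hS : ψ.range = (S : Subgroup G)) :
    (∀ x y : G, orderOf x = 2 → orderOf y = 2 → IsConj x y) ∨
      (N = 4 ∧ ∃ x y : G, orderOf x = 2 ∧ orderOf y = 2 ∧ ¬ IsConj x y ∧
        ∀ z : G, orderOf z = 2 → IsConj z x ∨ IsConj z y) := by
  have : Fact (Nat.Prime 2) := ⟨Nat.prime_two⟩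
  have hN4 : 4 ≤ N := Nat.le_of_dvd (Nat.pos_of_ne_zero (NeZero.ne N)) hN.out
  have hmem : ∀ x, ψ x ∈ (S : Subgroup G) := fun x => hS ▸ ⟨x, rfl⟩
  have hpre : ∀ y ∈ (S : Subgroup G), ∃ x, ψ x = y := fun y hy => by rw [← hS] at hy; exact hy
  have hpg : IsPGroup 2 (Mdl N) := fun x => by
    obtain ⟨k, hk⟩ := S.isPGroup' ⟨ψ x, hmem x⟩
    exact ⟨k, hψ (by rw [map_pow, map_one]; exact congrArg Subtype.val hk)⟩
  have hGc : ¬ IsMulCommutative G := fun h => by
    have h1 : tor (0 : ZMod N) 1 * ⟨0, 0, true, false⟩ = (⟨0, 0, true, false⟩ : Mdl N) * tor 0 1 :=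
      hψ (by rw [map_mul, map_mul]; exact h.is_comm.comm _ _)
    have h2 : (0 : ZMod N) = -1 := by
      have h3 := congrArg Mdl.i h1
      simpa [tor, mul_def, act1, act2, coc] using h3
    haveI : Fact (1 < N) := ⟨by omega⟩
    exact one_ne_zero (neg_eq_zero.1 h2.symm)
  have hzc : ∀ s ∈ (S : Subgroup G), s * ψ (z N) = ψ (z N) * s := fun s hs => by
    obtain ⟨x, rfl⟩ := hpre s hs
    rw [← map_mul, ← map_mul, z_comm]
  have hord : ∀ {x : Mdl N}, x * x = 1 → x ≠ 1 → orderOf (ψ x) = 2 := fun {x} h h1 =>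
    orderOf_eq_prime (by rw [← map_pow, pow_two, h, map_one]) fun e => h1 (hψ (by rw [e, map_one]))
  have hz2 : orderOf (ψ (z N)) = 2 := hord z_sq z_ne_one
  have hinv : ∀ w : G, orderOf w = 2 → ∃ x : Mdl N, x * x = 1 ∧ x ≠ 1 ∧ IsConj w (ψ x) := fun w hw => by
    obtain ⟨Q, hQ⟩ := (IsPGroup.of_card (p := 2) (n := 1)
      (show Nat.card (zpowers w) = 2 ^ 1 by rw [Nat.card_zpowers, hw, pow_one])).exists_le_sylow
    obtain ⟨g, rfl⟩ := MulAction.exists_smul_eq G Q S
    have hm : g * w * g⁻¹ ∈ ((g • Q : Sylow 2 G) : Subgroup G) := by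
      rw [Sylow.coe_subgroup_smul]
      exact smul_mem_pointwise_smul _ (MulAut.conj g) _ (hQ (mem_zpowers w))
    obtain ⟨x, hx⟩ := hpre _ hm
    have hw1 : w * w = 1 := by rw [← sq, ← hw]; exact pow_orderOf_eq_one w
    refine ⟨x, hψ ?_, fun h1 => ?_, isConj_iff.2 ⟨g, hx.symm⟩⟩
    · rw [map_mul, map_one, hx, show g * w * g⁻¹ * (g * w * g⁻¹) = g * (w * w) * g⁻¹ by group, hw1, mul_one,
        mul_inv_cancel]
    · have : w = 1 := by
        rw [h1, map_one] at hx
        have e : w = g⁻¹ * (g * w * g⁻¹) * g := by group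
        rw [e, ← hx]; group
      rw [this, orderOf_one] at hw
      omega
  have hmap : ∀ {a b : Mdl N}, IsConj a b → IsConj (ψ a) (ψ b) := fun h => ψ.map_isConj h
  have hmove : ∀ (K : Subgroup (Mdl N)), K.index = 2 → ∀ {x : Mdl N}, x * x = 1 → x ≠ 1 →
      ∀ r : Mdl N, r * x = x * r → ∃ y s : Mdl N, y * y = 1 ∧ y ≠ 1 ∧ y ∈ K ∧ IsConj (ψ x) (ψ y) ∧
        s * y = y * s ∧ ∃ g : G, g * ψ r * g⁻¹ = ψ s := by
    intro K hK x hx hx1 r hr
    have hQi : (K.map ψ).relIndex (S : Subgroup G) = 2 := by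
      rw [← hS, MonoidHom.range_eq_map, relIndex_map_map_of_injective _ _ hψ, relIndex_top_right, hK]
    have hR : IsPGroup 2 (zpowers (ψ r)) := by
      rw [← MonoidHom.map_zpowers]
      exact (hpg.to_subgroup _).map ψ
    obtain ⟨g, hg, hgR⟩ := exists_move hGc S (hS ▸ map_le_range ψ K) hQi
      (u := ψ x) (by rw [← map_mul, hx, map_one]) hR (fun s hs => by
        have hc : Commute (ψ r) (ψ x) := (show Commute r x from hr).map ψ
        obtain ⟨j, rfl⟩ := mem_zpowers_iff.1 hs
        exact (hc.zpow_left j).eq)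
    obtain ⟨y, hyK, hy⟩ := hg
    obtain ⟨s, hs⟩ := hpre _ (hgR _ (mem_zpowers _))
    refine ⟨y, s, hψ ?_, fun h => ?_, hyK, isConj_iff.2 ⟨g, hy.symm⟩, hψ ?_, g, hs.symm⟩
    · rw [map_mul, hy, show g * ψ x * g⁻¹ * (g * ψ x * g⁻¹) = g * (ψ x * ψ x) * g⁻¹ by group,
        ← map_mul, hx, map_one, mul_one, mul_inv_cancel]
    · rw [h, map_one, eq_comm] at hy
      exact hx1 (hψ (by
        rw [map_one]
        have e : ψ x = g⁻¹ * (g * ψ x * g⁻¹) * g := by group
        rw [e, hy]; group))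
    · rw [map_mul, map_mul, hy, hs, show g * ψ r * g⁻¹ * (g * ψ x * g⁻¹) = g * (ψ r * ψ x) * g⁻¹ by group,
        ← map_mul, hr, map_mul]
      group
  -- step one
  have hez : IsConj (ψ (e₀ N)) (ψ (z N)) := by
    by_contra hne
    have hsq : ∀ y : Mdl N, y * y * (y * y) = 1 → y * y ≠ 1 → IsConj (ψ (y * y)) (ψ (z N)) → y * y = z N := by
      intro y h4 h1 hc
      have ht := sq_torus y
      rcases invol_cases h4 h1 with h | h | h | h | h | ⟨-, h⟩ | h
      · exact h
      · exact absurd ((hmap h).trans hc) hne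
      all_goals
        have := isConj_ef h
        rw [ht.1, ht.2] at this
        simp [c2, c3, c4, c5, c6] at this
    have hc : ∀ c : Mdl N, c = c2 N ∨ c = c3 N ∨ c = c4 N ∨ c = c6 N → c ≠ z N →
        ¬ IsConj (ψ c) (ψ (z N)) := by
      intro c hc hcz hconj
      obtain ⟨y, hy, hy2⟩ := exists_root hc
      obtain ⟨g, hg, hgR⟩ := exists_move_central S hzc hconj (R := zpowers (ψ y))
        (by rw [← MonoidHom.map_zpowers]; exact (hpg.to_subgroup _).map ψ) (fun s hs => by
          have hc' : Commute (ψ y) (ψ c) := (show Commute y c from hy).map ψ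
          obtain ⟨j, rfl⟩ := mem_zpowers_iff.1 hs
          exact (hc'.zpow_left j).eq)
      obtain ⟨y', hy'⟩ := hpre _ (hgR _ (mem_zpowers _))
      have hq : ψ (y' * y') = g * ψ (z N) * g⁻¹ := by rw [map_mul, hy', ← hy2, map_mul]; group
      have hy'' : y' * y' = z N := hsq y'
        (hψ (by
          rw [map_mul, map_one, hq, show g * ψ (z N) * g⁻¹ * (g * ψ (z N) * g⁻¹) = g * (ψ (z N) * ψ (z N)) * g⁻¹ by
            group, ← map_mul, z_sq, map_one, mul_one, mul_inv_cancel]))
        (fun h => z_ne_one (N := N) (hψ (by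
          rw [h, map_one, eq_comm] at hq
          have e : ψ (z N) = g⁻¹ * (g * ψ (z N) * g⁻¹) * g := by group
          rw [e, hq, map_one]; group)))
        (isConj_iff.2 ⟨g⁻¹, by rw [hq]; group⟩)
      rw [hy''] at hq
      exact hcz (hψ ((MulAut.conj g).injective (hg.trans hq)))
    have hclass : ∀ x : Mdl N, x * x = 1 → x ≠ 1 → IsConj (ψ x) (ψ (z N)) → x = z N ∨ IsC5 x := by
      intro x hx hx1 hxc
      rcases invol_cases hx hx1 with h | h | h | h | h | h | h
      · exact Or.inl h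
      · exact absurd ((hmap h).trans hxc) hne
      · exact absurd ((hmap h).trans hxc) (hc _ (Or.inl rfl) (by simp [c2, z]))
      · exact absurd ((hmap h).trans hxc) (hc _ (Or.inr (Or.inl rfl)) (by simp [c3, z]))
      · exact absurd ((hmap h).trans hxc) (hc _ (Or.inr (Or.inr (Or.inl rfl))) (by simp [c4, z]))
      · exact Or.inr h.1
      · exact absurd ((hmap h).trans hxc) (hc _ (Or.inr (Or.inr (Or.inr rfl))) (by simp [c6, z]))
    by_cases h5 : IsConj (ψ (c5 N)) (ψ (z N))
    · -- the centraliser of `c5`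
      let R : Subgroup (Mdl N) := centralizer ({c5 N} : Set (Mdl N))
      have hRmem : ∀ r : Mdl N, r ∈ R ↔ r * c5 N = c5 N * r := fun r => mem_centralizer_singleton_iff
      obtain ⟨g, hg, hgR⟩ := exists_move_central S hzc h5 (R := R.map ψ) ((hpg.to_subgroup R).map ψ)
        (by rintro _ ⟨r, hr, rfl⟩; rw [← map_mul, ← map_mul, (hRmem r).1 hr])
      have img : ∀ r : Mdl N, r * c5 N = c5 N * r → ∃ r', ψ r' = g * ψ r * g⁻¹ := fun r hr =>
        hpre _ (hgR _ ⟨r, (hRmem r).2 hr, rfl⟩)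
      have hje : e₀ N * c5 N = c5 N * e₀ N := by simp [e₀, c5, mul_def, act1, act2, coc, hh_neg, add_comm]
      obtain ⟨zi, hzi⟩ := img (z N) (z_comm _)
      obtain ⟨ei, hei⟩ := img (e₀ N) hje
      obtain ⟨fi, hfi⟩ := img (z N * e₀ N) (by rw [mul_assoc, hje, ← mul_assoc, z_comm, mul_assoc])
      have hzi2 : IsConj (ψ zi) (ψ (z N)) := isConj_iff.2 ⟨g⁻¹, by rw [hzi]; group⟩
      have hne5 : c5 N ≠ z N := by simp [c5, z]
      have hconj1 : ∀ {a b : Mdl N}, ψ b = g * ψ a * g⁻¹ → a * a = 1 → a ≠ 1 → b * b = 1 ∧ b ≠ 1 := by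
        intro a b hb ha ha1
        refine ⟨hψ ?_, fun h => ha1 (hψ ?_)⟩
        · rw [map_mul, hb, show g * ψ a * g⁻¹ * (g * ψ a * g⁻¹) = g * (ψ a * ψ a) * g⁻¹ by group,
            ← map_mul, ha, map_one, mul_one, mul_inv_cancel]
        · rw [h, map_one, eq_comm] at hb
          have e : ψ a = g⁻¹ * (g * ψ a * g⁻¹) * g := by group
          rw [e, hb, map_one]; group
      have he2 : e₀ N * e₀ N = 1 := by simp [e₀, mul_def, one_def, act1, act2, coc, hh_add]
      have he1 : e₀ N ≠ 1 := fun h => z_ne_one (N := N) (by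
        have h' := congrArg Mdl.j h
        simp [e₀, one_def] at h'
        simp [z, one_def, h'])
      have hf2 : z N * e₀ N * (z N * e₀ N) = 1 := by
        rw [mul_assoc, ← mul_assoc (e₀ N), ← z_comm (e₀ N), mul_assoc (z N) (e₀ N), he2, mul_one, z_sq]
      have hf1 : z N * e₀ N ≠ 1 := fun h => by
        have h' := congrArg Mdl.j h
        simp [z, e₀, mul_def, one_def, act2] at h'
        exact z_ne_one (N := N) (by simp [z, one_def, h'])
      obtain ⟨hzi', hzi1⟩ := hconj1 hzi z_sq z_ne_one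
      obtain ⟨hei', hei1⟩ := hconj1 hei he2 he1
      obtain ⟨hfi', hfi1⟩ := hconj1 hfi hf2 hf1
      have hzc5 : IsC5 zi := by
        rcases hclass zi hzi' hzi1 hzi2 with h | h
        · exfalso
          rw [h] at hzi
          exact hne5 (hψ ((MulAut.conj g).injective (hg.trans hzi)))
        · exact h
      have hfe : IsConj (z N * e₀ N) (e₀ N) := by
        refine IsConj.symm (isConj_e.trans ?_)
        rw [show z N * e₀ N = (⟨hh N, hh N, false, false⟩ : Mdl N) by simp [z, e₀, mul_def, act1, act2, coc]]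
      have hcom : ∀ {a b : Mdl N}, ψ b = g * ψ a * g⁻¹ → zi * b = b * zi := by
        intro a b hb
        refine hψ ?_
        rw [map_mul, map_mul, hzi, hb, show g * ψ (z N) * g⁻¹ * (g * ψ a * g⁻¹) = g * (ψ (z N) * ψ a) * g⁻¹ by group,
          ← map_mul, z_comm, map_mul]
        group
      have hnc5 : ∀ {a b : Mdl N}, ψ b = g * ψ a * g⁻¹ → IsConj a (e₀ N) → ¬ IsC5 b := by
        intro a b hb ha hb5
        apply hne
        refine (hmap ha.symm).trans ((isConj_iff.2 ⟨g, hb.symm⟩).trans ?_)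
        have hbb : IsConj (c5 N) b := by
          obtain ⟨hb', hb1⟩ : b * b = 1 ∧ b ≠ 1 := by
            refine hconj1 hb ?_ ?_
            · obtain ⟨c, rfl⟩ := isConj_iff.1 ha.symm
              rw [show c * e₀ N * c⁻¹ * (c * e₀ N * c⁻¹) = c * (e₀ N * e₀ N) * c⁻¹ by group, he2, mul_one,
                mul_inv_cancel]
            · intro h
              exact he1 (isConj_one_right.1 (h ▸ ha.symm).symm)
          rcases invol_cases hb' hb1 with h | h | h | h | h | h | h
          · rw [h] at hb5; simp [IsC5, z] at hb5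
          · have := isConj_ef h; rw [hb5.1] at this; simp [e₀] at this
          · have := isConj_ef h; rw [hb5.1] at this; simp [c2] at this
          · have := isConj_ef h; rw [hb5.2.1] at this; simp [c3] at this
          · have hp := isConj_par h
            rw [hb5.2.2] at hp
            simp [c4] at hp
          · exact h.2
          · have hp := isConj_par h
            rw [hb5.2.2] at hp
            simp [c6] at hp
        exact (hmap hbb.symm).trans h5
      have htor : ∀ {a b : Mdl N}, ψ b = g * ψ a * g⁻¹ → IsConj a (e₀ N) → b.e = false ∧ b.f = false := by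
        intro a b hb ha
        rcases commute_c5 hzc5 (hcom hb) with h | h
        · exact ⟨h.1, h.2.1⟩
        · exact absurd h (hnc5 hb ha)
      have he' := htor hei (IsConj.refl _)
      have hf' := htor hfi hfe
      have hzif : zi = fi * ei := hψ (by
        have e : ψ (z N * e₀ N) * ψ (e₀ N) = ψ (z N) := by rw [← map_mul, mul_assoc, he2, mul_one]
        rw [map_mul ψ fi ei, hzi, hfi, hei, ← e]
        group)
      have h1 := hzc5.1
      rw [hzif, mul_def] at h1
      simp [he'.1, hf'.1] at h1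
    · -- `z` is isolated
      have hiso : Cfsg.IsIsolatedInvolution (ψ (z N)) := by
        refine ⟨hz2, fun g hcom => ?_⟩
        obtain ⟨k, hk, hkR⟩ := exists_move_central S hzc (x := ψ (z N)) (IsConj.refl _)
          (R := zpowers (g * ψ (z N) * g⁻¹)) (IsPGroup.of_card (n := 1) (by
            rw [Nat.card_zpowers, ← MulAut.conj_apply, MulEquiv.orderOf_eq, hz2, pow_one]))
          (fun r hr => by
            obtain ⟨j, rfl⟩ := mem_zpowers_iff.1 hr
            exact ((hcom.symm).zpow_left j).eq)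
        obtain ⟨x, hx⟩ := hpre _ (hkR _ (mem_zpowers _))
        have hxc : IsConj (ψ x) (ψ (z N)) := (isConj_iff.2 ⟨k * g, by rw [hx]; group⟩).symm
        have hx2 : orderOf (ψ x) = 2 := by
          obtain ⟨c, hc'⟩ := isConj_iff.1 hxc.symm
          rw [← hc', ← MulAut.conj_apply, MulEquiv.orderOf_eq, hz2]
        have hxx : x * x = 1 := hψ (by rw [map_mul, map_one, ← sq, ← hx2, pow_orderOf_eq_one])
        have hx1 : x ≠ 1 := fun h => by rw [h, map_one, orderOf_one] at hx2; omega
        rcases hclass x hxx hx1 hxc with h | h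
        · rw [h] at hx
          calc g * ψ (z N) * g⁻¹ = k⁻¹ * (k * (g * ψ (z N) * g⁻¹) * k⁻¹) * k := by group
            _ = k⁻¹ * (k * ψ (z N) * k⁻¹) * k := by rw [← hx, hk]
            _ = ψ (z N) := by group
        · exfalso
          rcases invol_cases hxx hx1 with h' | h' | h' | h' | h' | h' | h'
          · rw [h'] at h; simp [IsC5, z] at h
          · exact hne ((hmap h').trans hxc)
          · exact hc _ (Or.inl rfl) (by simp [c2, z]) ((hmap h').trans hxc)
          · exact hc _ (Or.inr (Or.inl rfl)) (by simp [c3, z]) ((hmap h').trans hxc)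
          · exact hc _ (Or.inr (Or.inr (Or.inl rfl))) (by simp [c4, z]) ((hmap h').trans hxc)
          · exact h5 ((hmap h'.2).trans hxc)
          · exact hc _ (Or.inr (Or.inr (Or.inr rfl))) (by simp [c6, z]) ((hmap h').trans hxc)
      rcases IsSimpleGroup.eq_bot_or_eq_top_of_normal (Cfsg.oddCore G)
        (CfsgLib.Solvable.pPrimeCore_normal 2 G) with h | h
      · have hcen : ψ (z N) ∈ center G := mem_center_iff.2 fun g => by
          have h' := CfsgLib.Invol.zstar G hiso g
          rw [h, mem_bot] at h'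
          exact ((mul_inv_eq_iff_eq_mul.1 (mul_inv_eq_one.1 h'))).symm
        rcases IsSimpleGroup.eq_bot_or_eq_top_of_normal (center G) inferInstance with h' | h'
        · rw [h', mem_bot] at hcen
          rw [hcen, orderOf_one] at hz2
          omega
        · exact hGc ⟨⟨fun a b => (mem_center_iff.1 (h' ▸ mem_top b) a)⟩⟩
      · have hodd := CfsgLib.Invol.odd_card_oddCore G
        rw [h, card_top] at hodd
        have h2 : 2 ∣ Nat.card G := hz2 ▸ orderOf_dvd_natCard (ψ (z N))
        rw [Nat.odd_iff] at hodd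
        omega
  -- step two
  have htwo : ∀ x : Mdl N, x * x = 1 → x ≠ 1 → IsConj (ψ x) (ψ (z N)) ∨ IsConj (ψ x) (ψ (c2 N)) := by
    intro x hx hx1
    obtain ⟨y, -, hy, hy1, hyK, hxy, -⟩ := hmove (maxE N) index_maxE hx hx1 1 (by rw [one_mul, mul_one])
    rcases invol_maxE hy hy1 hyK with h | h | h
    · exact Or.inl (h ▸ hxy)
    · exact Or.inl (hxy.trans ((hmap h).symm.trans hez))
    · exact Or.inr (hxy.trans (hmap h).symm)
  have hc22 : c2 N * c2 N = 1 := by simp [c2, mul_def, one_def, act1, act2, coc, hh_add]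
  have hc21 : c2 N ≠ 1 := by simp [c2, one_def]
  by_cases hone : IsConj (ψ (c2 N)) (ψ (z N))
  · left
    have key : ∀ w : G, orderOf w = 2 → IsConj w (ψ (z N)) := fun w hw => by
      obtain ⟨x, hx, hx1, hc⟩ := hinv w hw
      rcases htwo x hx hx1 with h | h
      exacts [hc.trans h, hc.trans (h.trans hone)]
    exact fun x y hx hy => (key x hx).trans (key y hy).symm
  · refine Or.inr ⟨?_, ψ (z N), ψ (c2 N), hz2, hord hc22 hc21, fun h => hone h.symm, fun w hw => ?_⟩
    · by_contra h4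
      obtain ⟨y, s, hy, hy1, hyK, hc, hsy, g, hg⟩ := hmove (maxM N) index_maxM hc22 hc21 (a₀ N) a₀_comm_c2
      rcases invol_maxM hy hy1 hyK with h | h | ⟨he, hf⟩
      · exact hone (h ▸ hc)
      · exact hone (hc.trans ((hmap h).symm.trans hez))
      · have hs4 := pow_four_of_commute he hf hsy.symm
        have ha : a₀ N ^ 4 = 1 := hψ (by
          have e : ψ (a₀ N) = g⁻¹ * ψ s * g := by rw [← hg]; group
          rw [map_pow, map_one, e, show (g⁻¹ * ψ s * g) ^ 4 = g⁻¹ * ψ (s * s * (s * s)) * g by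
            simp only [map_mul, pow_succ, pow_zero]; group, hs4, map_one]
          group)
        rw [a₀_pow] at ha
        have h' : ((4 : ℕ) : ZMod N) = 0 := congrArg Mdl.i ha
        rw [ZMod.natCast_eq_zero_iff] at h'
        exact h4 (Nat.dvd_antisymm h' hN.out)
    · obtain ⟨x, hx, hx1, hc⟩ := hinv w hw
      rcases htwo x hx hx1 with h | h
      exacts [Or.inl (hc.trans h), Or.inr (hc.trans h)]

end CfsgLib.G2TypeFusion
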