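import Mathlib

/-!
A model of the Sylow `2`-subgroup of `G₂(q)`, `q` odd: `(ℤ/N)²` extended by two commuting elements whose
squares are the central involution.  Elements are quadruples `(i, j, e, f)`.
-/

set_option autoImplicit false

namespace CfsgLib.G2TypeFusion

/-- The model group with torus of exponent `N`. -/
@[ext] structure Mdl (N : ℕ) where
  i : ZMod N
  j : ZMod N
  e : Bool
  f : Bool

namespace Mdl

variable {N : ℕ}

/-- The half of `N`. -/
def hh (N : ℕ) : ZMod N := ((N / 2 : ℕ) : ZMod N)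

/-- The first coordinate of the action of `b₁^e b₂^f`. -/
def act1 (e f : Bool) (i j : ZMod N) : ZMod N :=
  match e, f with
  | false, false => i
  | true, false => -i - j
  | false, true => i + j
  | true, true => -i

/-- The second coordinate of the action of `b₁^e b₂^f`. -/
def act2 (f : Bool) (j : ZMod N) : ZMod N := bif f then -j else j

/-- The cocycle. -/
def coc (N : ℕ) (e f e' f' : Bool) : ZMod N :=
  bif xor (e && e') (f && f') then hh N else 0

instance : Mul (Mdl N) :=
  ⟨fun x y => ⟨x.i + act1 x.e x.f y.i y.j + coc N x.e x.f y.e y.f, x.j + act2 x.f y.j, xor x.e y.e, xor x.f y.f⟩⟩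

instance : One (Mdl N) := ⟨⟨0, 0, false, false⟩⟩

instance : Inv (Mdl N) :=
  ⟨fun x => ⟨-act1 x.e x.f x.i x.j - coc N x.e x.f x.e x.f, -act2 x.f x.j, x.e, x.f⟩⟩

theorem mul_def (x y : Mdl N) : x * y =
    ⟨x.i + act1 x.e x.f y.i y.j + coc N x.e x.f y.e y.f, x.j + act2 x.f y.j, xor x.e y.e, xor x.f y.f⟩ := rfl

theorem one_def : (1 : Mdl N) = ⟨0, 0, false, false⟩ := rfl

theorem inv_def (x : Mdl N) : x⁻¹ =
    ⟨-act1 x.e x.f x.i x.j - coc N x.e x.f x.e x.f, -act2 x.f x.j, x.e, x.f⟩ := rfl

variable [hN : Fact (4 ∣ N)]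

theorem hh_add : hh N + hh N = 0 := by
  obtain ⟨k, hk⟩ := hN.out
  rw [hh, ← Nat.cast_add, show N / 2 + N / 2 = N by omega]
  exact ZMod.natCast_self N

theorem hh_neg : -hh N = hh N := neg_eq_of_add_eq_zero_left hh_add

omit hN in
theorem act1_comp (e f e' f' : Bool) (i j : ZMod N) :
    act1 e f (act1 e' f' i j) (act2 f' j) = act1 (xor e e') (xor f f') i j := by
  cases e <;> cases f <;> cases e' <;> cases f' <;> simp [act1, act2] <;> ring

omit hN in
theorem act2_comp (f f' : Bool) (j : ZMod N) : act2 f (act2 f' j) = act2 (xor f f') j := by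
  cases f <;> cases f' <;> simp [act2]

omit hN in
theorem act1_add (e f : Bool) (i i' j j' : ZMod N) :
    act1 e f (i + i') (j + j') = act1 e f i j + act1 e f i' j' := by
  cases e <;> cases f <;> simp [act1] <;> ring

omit hN in
theorem act2_add (f : Bool) (j j' : ZMod N) : act2 f (j + j') = act2 f j + act2 f j' := by
  cases f <;> simp [act2, add_comm]

theorem act1_coc (e f a b c d : Bool) : act1 e f (coc N a b c d) 0 = coc N a b c d := by
  have h2 := hh_neg (N := N)
  cases e <;> cases f <;> cases a <;> cases b <;> cases c <;> cases d <;> simp [act1, coc, h2]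

theorem coc_assoc (e f e' f' e'' f'' : Bool) :
    coc N e f e' f' + coc N (xor e e') (xor f f') e'' f'' =
      coc N e' f' e'' f'' + coc N e f (xor e' e'') (xor f' f'') := by
  have h := hh_add (N := N)
  cases e <;> cases f <;> cases e' <;> cases f' <;> cases e'' <;> cases f'' <;> simp [coc, h]

instance : Group (Mdl N) :=
  Group.ofLeftAxioms
    (fun ⟨a, b, e, f⟩ ⟨a', b', e', f'⟩ ⟨a'', b'', e'', f''⟩ => by
      simp only [mul_def, Mdl.mk.injEq, Bool.xor_assoc, and_true]
      refine ⟨?_, ?_⟩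
      · have e0 : b' + act2 f' b'' = b' + act2 f' b'' + 0 := (add_zero _).symm
        rw [e0, act1_add, act1_add, act1_comp, act1_coc]
        linear_combination coc_assoc (N := N) e f e' f' e'' f''
      · rw [act2_add, act2_comp, add_assoc])
    (fun ⟨a, b, e, f⟩ => by
      simp [mul_def, one_def, act1, act2, coc])
    (fun ⟨a, b, e, f⟩ => by
      cases e <;> cases f <;> simp [mul_def, one_def, inv_def, act1, act2, coc] <;> ring)

/-! ### Elements -/

/-- The central involution. -/
def z (N : ℕ) : Mdl N := ⟨hh N, 0, false, false⟩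
/-- A non-central involution of the torus. -/
def e₀ (N : ℕ) : Mdl N := ⟨0, hh N, false, false⟩
/-- Representative. -/
def c2 (N : ℕ) : Mdl N := ⟨0, hh N, false, true⟩
/-- Representative. -/
def c3 (N : ℕ) : Mdl N := ⟨0, hh N, true, false⟩
/-- Representative. -/
def c4 (N : ℕ) : Mdl N := ⟨0, 0, true, true⟩
/-- Representative. -/
def c5 (N : ℕ) : Mdl N := ⟨0, 1, true, true⟩
/-- Representative. -/
def c6 (N : ℕ) : Mdl N := ⟨1, 0, true, true⟩
/-- The generator of the first factor of the torus. -/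
def a₀ (N : ℕ) : Mdl N := ⟨1, 0, false, false⟩

theorem two_dvd : 2 ∣ N := dvd_trans ⟨2, rfl⟩ hN.out

/-- Parity. -/
def par (N : ℕ) [hN : Fact (4 ∣ N)] : ZMod N →+* ZMod 2 := ZMod.castHom (two_dvd (N := N)) (ZMod 2)

/-- The class of `c5`. -/
def IsC5 (x : Mdl N) : Prop := x.e = true ∧ x.f = true ∧ par N x.j = 1

theorem par_hh : par N (hh N) = 0 := by
  obtain ⟨k, hk⟩ := hN.out
  rw [hh, map_natCast, show N / 2 = 2 * k by omega, Nat.cast_mul]
  simp [show (2 : ZMod 2) = 0 from by decide]

theorem par_two_mul (x : ZMod N) : par N (2 * x) = 0 := by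
  rw [map_mul, map_ofNat, show (OfNat.ofNat 2 : ZMod 2) = 0 from by decide, zero_mul]

omit hN in
theorem exists_half (x : ZMod N) : ∃ k, x = 2 * k ∨ x = 1 + 2 * k := by
  obtain ⟨m, rfl⟩ := ZMod.intCast_surjective x
  rcases Int.even_or_odd' m with ⟨k, rfl | rfl⟩
  · exact ⟨(k : ZMod N), Or.inl (by push_cast; ring)⟩
  · exact ⟨(k : ZMod N), Or.inr (by push_cast; ring)⟩

theorem par_zero_or_one (x : ZMod N) : par N x = 0 ∨ par N x = 1 :=
  (show ∀ y : ZMod 2, y = 0 ∨ y = 1 from by decide) _

theorem eq_of_add_self {x : ZMod N} (hx : x + x = 0) : x = 0 ∨ x = hh N := by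
  obtain ⟨m, rfl⟩ := ZMod.intCast_surjective x
  rw [← Int.cast_add, ZMod.intCast_zmod_eq_zero_iff_dvd] at hx
  obtain ⟨k, hk⟩ := hN.out
  obtain ⟨c, hc⟩ := hx
  rcases Int.even_or_odd' c with ⟨d, rfl | rfl⟩
  · left
    rw [ZMod.intCast_zmod_eq_zero_iff_dvd]
    exact ⟨d, by linarith⟩
  · right
    rw [hh, ← Int.cast_natCast, ZMod.intCast_eq_intCast_iff_dvd_sub]
    refine ⟨-d, ?_⟩
    have h2 : ((N / 2 : ℕ) : ℤ) * 2 = N := by omega
    linarith

omit hN in
theorem sq_torus (x : Mdl N) : (x * x).e = false ∧ (x * x).f = false := by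
  simp [mul_def]

theorem z_comm (x : Mdl N) : z N * x = x * z N := by
  obtain ⟨i, j, e, f⟩ := x
  have h2 := hh_neg (N := N)
  cases e <;> cases f <;> simp [z, mul_def, act1, act2, coc, add_comm, h2]

theorem z_ne_one [NeZero N] : z N ≠ 1 := by
  intro h
  have h1 : hh N = 0 := congrArg Mdl.i h
  obtain ⟨k, hk⟩ := hN.out
  rw [hh, ZMod.natCast_eq_zero_iff] at h1
  have h0 : 0 < N := Nat.pos_of_ne_zero (NeZero.ne N)
  exact absurd (Nat.le_of_dvd (by omega) h1) (by omega)

theorem z_sq : z N * z N = 1 := by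
  simp [z, mul_def, one_def, act1, act2, coc, hh_add]

/-- An element of the torus. -/
def tor (a b : ZMod N) : Mdl N := ⟨a, b, false, false⟩

theorem isConj_e : IsConj (e₀ N) (⟨hh N, hh N, false, false⟩ : Mdl N) := by
  refine isConj_iff.2 ⟨(⟨0, 0, true, false⟩ : Mdl N), ?_⟩
  rw [mul_inv_eq_iff_eq_mul]
  simp [e₀, mul_def, act1, act2, coc, hh_neg]

theorem isC5_c5 : IsC5 (c5 N) := ⟨rfl, rfl, map_one _⟩

/-- The classes of involutions. -/
theorem invol_cases {x : Mdl N} (hx : x * x = 1) (h1 : x ≠ 1) :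
    x = z N ∨ IsConj (e₀ N) x ∨ IsConj (c2 N) x ∨ IsConj (c3 N) x ∨ IsConj (c4 N) x ∨
      (IsC5 x ∧ IsConj (c5 N) x) ∨ IsConj (c6 N) x := by
  obtain ⟨i, j, e, f⟩ := x
  have h2 := hh_neg (N := N)
  rw [mul_def, one_def] at hx
  cases e <;> cases f <;> simp [act1, act2, coc] at hx
  · obtain ⟨hi, hj⟩ := hx
    rcases eq_of_add_self hi with rfl | rfl <;> rcases eq_of_add_self hj with rfl | rfl
    · exact absurd rfl h1
    · exact Or.inr (Or.inl (IsConj.refl _))
    · exact Or.inl rfl
    · exact Or.inr (Or.inl isConj_e)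
  · refine Or.inr (Or.inr (Or.inl (isConj_iff.2 ⟨tor 0 (-i), ?_⟩)))
    rw [mul_inv_eq_iff_eq_mul]
    simp [c2, tor, mul_def, act1, act2, coc]
    linear_combination -hx - h2
  · refine Or.inr (Or.inr (Or.inr (Or.inl (isConj_iff.2 ⟨tor 0 i, ?_⟩))))
    rw [mul_inv_eq_iff_eq_mul]
    simp [c3, tor, mul_def, act1, act2, coc]
    linear_combination hx.1
  · obtain ⟨k, hk⟩ := exists_half i
    obtain ⟨l, hl⟩ := exists_half j
    have mk : ∀ a b a' b' : ZMod N, i = a + 2 * a' → j = b + 2 * b' →
        IsConj (⟨a, b, true, true⟩ : Mdl N) ⟨i, j, true, true⟩ := by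
      intro a b a' b' ha hb
      refine isConj_iff.2 ⟨tor a' b', ?_⟩
      rw [mul_inv_eq_iff_eq_mul]
      simp [tor, mul_def, act1, act2, coc, ha, hb]
      constructor <;> ring
    rcases hk with hk | hk <;> rcases hl with hl | hl
    · exact Or.inr (Or.inr (Or.inr (Or.inr (Or.inl (mk 0 0 k l (by rw [hk, zero_add]) (by rw [hl, zero_add]))))))
    · refine Or.inr (Or.inr (Or.inr (Or.inr (Or.inr (Or.inl ⟨⟨rfl, rfl, ?_⟩, mk 0 1 k l (by rw [hk, zero_add]) hl⟩)))))
      show par N j = 1
      rw [hl, map_add, map_one, par_two_mul, add_zero]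
    · exact Or.inr (Or.inr (Or.inr (Or.inr (Or.inr (Or.inr (mk 1 0 k l hk (by rw [hl, zero_add])))))))
    · refine Or.inr (Or.inr (Or.inr (Or.inr (Or.inr (Or.inl ⟨⟨rfl, rfl, ?_⟩, ?_⟩)))))
      · show par N j = 1
        rw [hl, map_add, map_one, par_two_mul, add_zero]
      · refine IsConj.trans ?_ (mk (-1) 1 (k + 1) l (by rw [hk]; ring) hl)
        refine isConj_iff.2 ⟨(⟨0, 0, true, false⟩ : Mdl N), ?_⟩
        rw [mul_inv_eq_iff_eq_mul]
        simp [c5, mul_def, act1, act2, coc]

/-! ### Centralisers -/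

omit hN in
theorem a₀_comm_c2 : a₀ N * c2 N = c2 N * a₀ N := by
  simp [a₀, c2, mul_def, act1, act2, coc]

/-- Involutions with a square root of `z` in their centraliser. -/
theorem exists_root {c : Mdl N} (hc : c = c2 N ∨ c = c3 N ∨ c = c4 N ∨ c = c6 N) :
    ∃ y : Mdl N, y * c = c * y ∧ y * y = z N := by
  have h2 := hh_neg (N := N)
  obtain ⟨k, hk⟩ := hN.out
  have hr : (k : ZMod N) + k = hh N := by
    rw [hh, ← Nat.cast_add, show N / 2 = k + k by omega]
  rcases hc with rfl | rfl | rfl | rfl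
  · exact ⟨tor k 0, by simp [tor, c2, mul_def, act1, act2, coc], by simp [tor, z, mul_def, act1, act2, coc, hr]⟩
  · refine ⟨tor k (hh N), ?_, by simp [tor, z, mul_def, act1, act2, coc, hr, hh_add]⟩
    simp [tor, c3, mul_def, act1, act2, coc]
    linear_combination hr + hh_add (N := N)
  · exact ⟨⟨0, 0, true, false⟩, by simp [c4, mul_def, act1, act2, coc], by simp [z, mul_def, act1, act2, coc]⟩
  · exact ⟨⟨1, 0, true, false⟩, by simp [c6, mul_def, act1, act2, coc], by simp [z, mul_def, act1, act2, coc]⟩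

/-- What commutes with the class of `c5`. -/
theorem commute_c5 {u x : Mdl N} (hu : IsC5 u) (h : u * x = x * u) :
    (x.e = false ∧ x.f = false ∧ x * x = 1) ∨ IsC5 x := by
  obtain ⟨i, j, e, f⟩ := u
  obtain ⟨rfl, rfl, hj⟩ := hu
  obtain ⟨k, l, e, f⟩ := x
  simp only at hj
  cases e <;> cases f <;> simp [mul_def, act1, act2, coc] at h
  · refine Or.inl ⟨rfl, rfl, ?_⟩
    simp [mul_def, one_def, act1, act2, coc]
    exact ⟨by linear_combination -(h.1), by linear_combination -(h.2)⟩
  · exfalso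
    have := congrArg (par N) (show j = 2 * (-k) by linear_combination -(h.1))
    rw [hj, par_two_mul] at this
    exact one_ne_zero this
  · exfalso
    have := congrArg (par N) (show j = 2 * (k - i) by linear_combination h.1)
    rw [hj, par_two_mul] at this
    exact one_ne_zero this
  · refine Or.inr ⟨rfl, rfl, ?_⟩
    show par N l = 1
    rcases eq_of_add_self (x := j - l) (by linear_combination h.2) with h' | h'
    · rw [← sub_eq_zero.1 h', hj]
    · rw [show l = j - hh N by linear_combination -h', map_sub, hj, par_hh, sub_zero]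

/-- The centraliser of an element `(v, b₁b₂)` has exponent at most four. -/
theorem pow_four_of_commute {u x : Mdl N} (he : u.e = true) (hf : u.f = true) (h : u * x = x * u) :
    x * x * (x * x) = 1 := by
  obtain ⟨i, j, e, f⟩ := u
  obtain ⟨k, l, e', f'⟩ := x
  simp only at he hf
  subst he hf
  cases e' <;> cases f' <;> simp [mul_def, act1, act2, coc] at h <;>
    simp [mul_def, one_def, act1, act2, coc]
  · exact ⟨by linear_combination -2 * h.1, by linear_combination -2 * h.2⟩
  · linear_combination -2 * h.1 - h.2 + hh_add (N := N)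
  · exact ⟨by linear_combination h.2 + hh_add (N := N), by linear_combination -2 * h.2⟩

/-! ### Maximal subgroups -/

/-- The elements without `b₁`. -/
def maxE (N : ℕ) [Fact (4 ∣ N)] : Subgroup (Mdl N) where
  carrier := {x | x.e = false}
  one_mem' := rfl
  mul_mem' {x y} hx hy := by simp [Set.mem_ofPred_eq, mul_def] at *; simp [hx, hy]
  inv_mem' {x} hx := hx

/-- A bit as a number modulo two. -/
def bit (b : Bool) : ZMod 2 := bif b then 1 else 0

theorem bit_xor (a b : Bool) : bit (xor a b) = bit a + bit b := by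
  cases a <;> cases b <;> decide

theorem par_act2 (f : Bool) (j : ZMod N) : par N (act2 f j) = par N j := by
  cases f <;> simp [act2, map_neg, ZMod.neg_eq_self_mod_two]

/-- The kernel of `j + e + f`. -/
def maxM (N : ℕ) [Fact (4 ∣ N)] : Subgroup (Mdl N) where
  carrier := {x | par N x.j + bit x.e + bit x.f = 0}
  one_mem' := by simp [one_def, bit]
  mul_mem' {x y} hx hy := by
    show par N (x.j + act2 x.f y.j) + bit (xor x.e y.e) + bit (xor x.f y.f) = 0
    rw [map_add, par_act2, bit_xor, bit_xor]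
    have hx' : par N x.j + bit x.e + bit x.f = 0 := hx
    have hy' : par N y.j + bit y.e + bit y.f = 0 := hy
    linear_combination hx' + hy'
  inv_mem' {x} hx := by
    show par N (-act2 x.f x.j) + bit x.e + bit x.f = 0
    rw [map_neg, par_act2, ZMod.neg_eq_self_mod_two]
    exact hx

theorem index_maxE : (maxE N).index = 2 :=
  Subgroup.index_eq_two_iff.2 ⟨⟨0, 0, true, false⟩, fun b => by
    show Xor (((b * ⟨0, 0, true, false⟩ : Mdl N)).e = false) (b.e = false)
    cases hb : b.e <;> simp [mul_def, hb]⟩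

theorem index_maxM : (maxM N).index = 2 :=
  Subgroup.index_eq_two_iff.2 ⟨⟨0, 0, true, false⟩, fun b => by
    show Xor (par N (b.j + act2 b.f 0) + bit (xor b.e true) + bit (xor b.f false) = 0)
      (par N b.j + bit b.e + bit b.f = 0)
    rw [map_add, par_act2, map_zero, add_zero, bit_xor, Bool.xor_false,
      show bit true = 1 from rfl]
    have key : ∀ a c d : ZMod 2, Xor (a + (c + 1) + d = 0) (a + c + d = 0) := by decide
    exact key _ _ _⟩

theorem isConj_ef {c x : Mdl N} (h : IsConj c x) : c.e = x.e ∧ c.f = x.f := by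
  obtain ⟨g, rfl⟩ := isConj_iff.1 h
  simp only [mul_def, inv_def]
  exact ⟨by cases g.e <;> simp, by cases g.f <;> simp⟩

theorem isConj_par {c x : Mdl N} (h : IsConj c x) : par N c.j = par N x.j := by
  obtain ⟨g, rfl⟩ := isConj_iff.1 h
  simp only [mul_def, inv_def, map_add, map_neg, par_act2, ZMod.neg_eq_self_mod_two]
  rw [add_right_comm]
  have key : ∀ a b : ZMod 2, b = a + a + b := by decide
  exact key _ _

/-- Involutions of `maxE`. -/
theorem invol_maxE {x : Mdl N} (hx : x * x = 1) (h1 : x ≠ 1) (hm : x ∈ maxE N) :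
    x = z N ∨ IsConj (e₀ N) x ∨ IsConj (c2 N) x := by
  have he : x.e = false := hm
  rcases invol_cases hx h1 with h | h | h | h | h | ⟨-, h⟩ | h
  · exact Or.inl h
  · exact Or.inr (Or.inl h)
  · exact Or.inr (Or.inr h)
  all_goals exact absurd ((isConj_ef h).1.trans he) (by simp [c3, c4, c5, c6])

/-- Involutions of `maxM`. -/
theorem invol_maxM {x : Mdl N} (hx : x * x = 1) (h1 : x ≠ 1) (hm : x ∈ maxM N) :
    x = z N ∨ IsConj (e₀ N) x ∨ (x.e = true ∧ x.f = true) := by
  have hn : (maxM N).Normal := Subgroup.normal_of_index_eq_two index_maxM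
  have hb : ∀ {c : Mdl N}, IsConj c x → c ∈ maxM N := fun {c} h => by
    obtain ⟨g, rfl⟩ := isConj_iff.1 h.symm
    exact hn.conj_mem _ hm g
  have hh' : ∀ c : Mdl N, c.j = hh N → bit c.e + bit c.f = 1 → c ∉ maxM N := fun c hj hef hc => by
    have hc' : par N c.j + bit c.e + bit c.f = 0 := hc
    rw [hj, par_hh, zero_add, hef] at hc'
    exact one_ne_zero hc'
  rcases invol_cases hx h1 with h | h | h | h | h | ⟨-, h⟩ | h
  · exact Or.inl h
  · exact Or.inr (Or.inl h)
  · exact absurd (hb h) (hh' _ rfl (by simp [bit, c2]))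
  · exact absurd (hb h) (hh' _ rfl (by simp [bit, c3]))
  all_goals exact Or.inr (Or.inr ⟨(isConj_ef h).1.symm.trans rfl, (isConj_ef h).2.symm.trans rfl⟩)

/-- The model as a product. -/
def equivProd (N : ℕ) : Mdl N ≃ ZMod N × ZMod N × Bool × Bool where
  toFun x := (x.i, x.j, x.e, x.f)
  invFun p := ⟨p.1, p.2.1, p.2.2.1, p.2.2.2⟩
  left_inv _ := rfl
  right_inv _ := rfl

omit hN in
theorem card_mdl : Nat.card (Mdl N) = 4 * N ^ 2 := by
  rw [Nat.card_congr (equivProd N), Nat.card_prod, Nat.card_prod, Nat.card_prod, Nat.card_zmod,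
    Nat.card_eq_fintype_card, Fintype.card_bool]
  ring

theorem a₀_pow (k : ℕ) : a₀ N ^ k = tor (k : ZMod N) 0 := by
  induction k with
  | zero => simp [tor, one_def]
  | succ k ih => rw [pow_succ, ih]; simp [tor, a₀, mul_def, act1, act2, coc]

end Mdl

end CfsgLib.G2TypeFusion
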